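import Groth.Agent.SSMod.K264.Main

/-!
# S15277 from S15281 and S15274
-/

set_option autoImplicit false
universe u

open CategoryTheory AlgebraicGeometry Limits TopologicalSpace Topology
open K264.Rfc

namespace K264.SS

/-- The statement of S15277, from the statements of S15281 (`ValSt`) and S15274 (`Uniq`). -/
theorem row (HV : ValSt.{u}) (HU : K971.SSUses.Uniq.{u})
    {S C D : Scheme.{u}} [IsIntegral S] [CompactSpace S] [QuasiSeparatedSpace S]
    (φ : C ⟶ S) (i : D ⟶ C) (hC : SSMod.IsMPCurve φ i)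
    (hη : SSMod.IsSemistable (pullback.snd φ (S.fromSpecStalk (genericPoint S)))
      (CInt.baseChangeOver i φ (S.fromSpecStalk (genericPoint S)))) :
    ∃ (S' : Scheme.{u}) (_ : IsIntegral S') (g : S' ⟶ S) (V : S.Opens),
      Curv2.IsAlteration g ∧ (V : Set S).Nonempty ∧ Etale (g ∣_ V) ∧
      ∃ (C' D' : Scheme.{u}) (i' : D' ⟶ C') (fC : C' ⟶ pullback φ g) (fD : D' ⟶ pullback (i ≫ φ) g),
        SSMod.IsStableModification (pullback.snd φ g) (CInt.baseChangeOver i φ g) i' fC fD ∧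
        SSMod.IsEtaIso (pullback.snd φ g) fC ∧
        SSMod.IsEtaIso (CInt.baseChangeOver i φ g ≫ pullback.snd φ g) fD := by
  obtain ⟨S', h0, g, ⟨h1, V, hV, h2⟩, h3⟩ := main HV HU φ i hC hη
  exact ⟨S', h0, g, V, h1, hV, h2, h3⟩

end K264.SS
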