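import Groth.Agent.FlatMor.K264.Rfc.DescEta
import Groth.Agent.FibDim.K582.RelDim
import Groth.Agent.FibDim.K582.CMConst
import Groth.Agent.Variety.K418.DimFlat
import Groth.Agent.QGor.K970.BCHyp
import Groth.Agent.S0402
import Groth.Agent.S9355

/-!
# Pure relative dimension descends along limits
-/

set_option autoImplicit false
set_option backward.isDefEq.respectTransparency false
set_option backward.defeqAttrib.useBackward true
universe u

open CategoryTheory AlgebraicGeometry Limits TopologicalSpace Topology
open Groth.Agent.Ega43.LimitDescend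

namespace K264.SS

theorem isConstructible_fibreDimAt {X S : Scheme.{u}} (f : X ⟶ S) [LocallyOfFinitePresentation f] (d : ℕ) :
    IsConstructible {x : X | FlatMor.fibreDimAt f x = d} := by
  have h : ∀ n : ℕ, IsConstructible {x : X | FlatMor.fibreDimAt f x ≤ n} := fun n =>
    (Groth.Agent.S9355.result f n).isConstructible (Groth.Agent.S0402.result f n)
  cases d with
  | zero =>
    convert h 0 using 1
    ext x
    simp only [Set.mem_setOf_eq]
    exact ⟨fun e => e.le, fun e => le_antisymm e (K582.CMConst.fibreDimAt_nonneg f x)⟩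
  | succ d =>
    convert (h (d + 1)).sdiff (h d) using 1
    ext x
    simp only [Set.mem_setOf_eq, Set.mem_sdiff]
    constructor
    · intro e
      rw [e]
      refine ⟨le_rfl, ?_⟩
      rw [not_le]
      exact_mod_cast Nat.lt_succ_self d
    · rintro ⟨e, e'⟩
      refine le_antisymm e ?_
      rw [not_le] at e'
      induction hx : FlatMor.fibreDimAt f x with
      | bot => rw [hx] at e'; exact absurd e' (not_lt_bot)
      | coe y =>
        rw [hx] at e'
        have h1 : (d : ℕ∞) < y := by exact_mod_cast e'
        have h2 : ((d : ℕ∞) + 1) ≤ y := Order.add_one_le_of_lt h1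
        exact_mod_cast h2

/-- Locally of finite type of pure relative dimension `d`. -/
def Lrd (d : ℕ) : MorphismProperty Scheme.{u} := fun _ _ f => LocallyOfFiniteType f ∧ Cyc.HasRelDim f d

instance (d : ℕ) : (Lrd.{u} d).IsStableUnderBaseChange where
  of_isPullback {X Y Y' S f g f' g'} sq h := by
    obtain ⟨h1, h2⟩ := h
    exact ⟨MorphismProperty.of_isPullback (P := @LocallyOfFiniteType) sq h1, K970.BCHyp.hasRelDim_of_isPullback sq h2⟩

theorem descendsLim_lrd (d : ℕ) : DescendsLim (Lrd.{u} d) := by
  intro J _ _ E c hc _ _ _ B X₀ t ht f₀ _ _ _ p hp X q f hX hf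
  obtain ⟨i₀⟩ := IsCofiltered.nonempty (C := J)
  let F := pbDiagram t ht f₀
  have hcF := isLimitPbCone t ht f₀ c p hp q f hX hc
  have i1 : ∀ i, CompactSpace ((pbDiagram t ht f₀).obj i) := fun i => inferInstance
  have i2 : ∀ i, QuasiSeparatedSpace ((pbDiagram t ht f₀).obj i) := fun i => inferInstance
  have i3 : ∀ (i j : J) (f : i ⟶ j), IsAffineHom ((pbDiagram t ht f₀).map f) := fun i j f => inferInstance
  have i4 : ∀ i, LocallyOfFinitePresentation (pullback.snd f₀ (t i)) := fun i => inferInstance
  have hft := hf.1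
  have hf' := (K582.FibRelDim.hasRelDim_iff f d).1 hf.2
  have hcon := isConstructible_fibreDimAt (pullback.snd f₀ (t i₀)) d
  obtain ⟨i, φ, hφ⟩ := K115.Cons.exists_preimage_eq_preimage F _ hcF i₀
    {x | FlatMor.fibreDimAt (pullback.snd f₀ (t i₀)) x = d} Set.univ hcon IsConstructible.univ (by
      ext x
      simp only [Set.mem_preimage, Set.mem_setOf_eq, Set.mem_univ, iff_true]
      have h1 := K418.DimFlat.fibreDimAt_of_isPullback
        (isPullback_pbCone t ht f₀ c p hp q f hX i₀) x
      rw [← hf' x]
      exact h1.symm)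
  refine ⟨i, inferInstance, ?_⟩
  rw [K582.FibRelDim.hasRelDim_iff]
  intro x
  have hx : x ∈ (F.map φ) ⁻¹' {x | FlatMor.fibreDimAt (pullback.snd f₀ (t i₀)) x = d} := by
    rw [hφ]; trivial
  rw [K418.DimFlat.fibreDimAt_of_isPullback (isPullback_pbSnd t ht f₀ φ) x]
  exact hx

end K264.SS
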