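import Groth.Agent.SSMod.K264.Rel
import Groth.Agent.SSMod.K122.Glue
import Groth.Agent.SSMod.K263.OpenBase

/-!
# Gluing stable modifications over an open cover of the base
-/

set_option autoImplicit false
universe u

open CategoryTheory AlgebraicGeometry Limits TopologicalSpace Topology

namespace K264.SS

theorem HasSt.of_eq {T C D : Scheme.{u}} [IsIntegral T] {φ φ' : C ⟶ T} {i : D ⟶ C} (h : HasSt φ i) (e : φ = φ') :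
    HasSt φ' i := e ▸ h

/-- Gluing over an open cover of the base. -/
theorem hasSt_of_cover (HU : K971.SSUses.Uniq.{u}) {T C D : Scheme.{u}} [IsIntegral T] [CompactSpace T]
    [QuasiSeparatedSpace T] (hT : Pi1.IsNormalScheme T) (φ : C ⟶ T) (i : D ⟶ C) (hC : SSMod.IsMPCurve φ i)
    (H : ∀ x : T, ∃ W : T.Opens, x ∈ W ∧ IsAffineOpen W ∧ ∃ _ : IsIntegral W,
      HasSt (φ ∣_ W) (i ∣_ (φ ⁻¹ᵁ W))) : HasSt φ i := by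
  obtain ⟨Cst, Dst, ist, fC, fD, h⟩ := K122.Glue.main HU hT φ i hC (fun c => by
    obtain ⟨W, hxW, hWa, hWi, C', D', i', fC, fD, h1, h2, h3⟩ := H (φ c)
    have hqc : QuasiCompact W.ι := by
      have : IsAffine (W : Scheme.{u}) := hWa
      infer_instance
    refine ⟨φ ⁻¹ᵁ W, hxW, C', D', i', fC, fD, ?_⟩
    have e := morphismRestrict_ι φ W
    have r1 := K263.OpenBase.isStableModification h1 W.ι
    have r2 := K263.OpenBase.isEtaIso h2 W.ι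
    have r3 := K263.OpenBase.isEtaIso h3 W.ι
    rw [Category.assoc] at r3
    rw [e] at r1 r2 r3
    exact ⟨r1, r2, r3⟩)
  exact ⟨Cst, Dst, ist, fC, fD, h⟩

variable {S C₀ D₀ : Scheme.{u}} {φ₀ : C₀ ⟶ S} {i₀ : D₀ ⟶ C₀}

theorem SSol.glue (HU : K971.SSUses.Uniq.{u}) (hC : SSMod.IsMPCurve φ₀ i₀) {T : Scheme.{u}} [IsIntegral T]
    [CompactSpace T] [QuasiSeparatedSpace T] (hT : Pi1.IsNormalScheme T) (g : T ⟶ S)
    (h : ∀ x : T, ∃ U : T.Opens, x ∈ U ∧ SSol φ₀ i₀ U (U.ι ≫ g)) : SSol φ₀ i₀ T g := by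
  refine ⟨inferInstance, hasSt_of_cover HU hT _ _ (isMPCurve_bc φ₀ i₀ hC g) fun x => ?_⟩
  obtain ⟨U, hxU, hUi, hU⟩ := h x
  obtain ⟨W, hWa, hxW, hWU⟩ := exists_isAffineOpen_mem_and_subset (X := T) (x := x) (U := U) hxU
  have hne : Nonempty W := ⟨⟨x, hxW⟩⟩
  have hWi : IsIntegral W := inferInstance
  refine ⟨W, hxW, hWa, hWi, ?_⟩
  let t : (W : Scheme.{u}) ⟶ (U : Scheme.{u}) := T.homOfLE hWU
  have ht : t (genericPoint (W : Scheme.{u})) = genericPoint (U : Scheme.{u}) :=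
    genericPoint_eq_of_isOpenImmersion t
  -- the square over `T`
  let φ := pullback.snd φ₀ g
  let i := CInt.baseChangeOver i₀ φ₀ g
  have sq1 : IsPullback (φ ⁻¹ᵁ W).ι (φ ∣_ W) φ W.ι := (isPullback_morphismRestrict φ W).flip
  have sq1D : IsPullback (i ⁻¹ᵁ (φ ⁻¹ᵁ W)).ι (i ∣_ (φ ⁻¹ᵁ W)) i (φ ⁻¹ᵁ W).ι :=
    (isPullback_morphismRestrict i (φ ⁻¹ᵁ W)).flip
  have sq2 := IsPullback.of_hasPullback φ₀ (U.ι ≫ g)
  obtain ⟨a, ha, sqa⟩ := exists_relC φ₀ g U.ι (U.ι ≫ g) rfl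
  obtain ⟨b, sqb⟩ := exists_relD φ₀ i₀ g (U.ι ≫ g) a ha
  have hw : (φ ⁻¹ᵁ W).ι ≫ φ = ((φ ∣_ W) ≫ t) ≫ U.ι := by
    rw [Category.assoc, T.homOfLE_ι hWU, sq1.w]
  have sqt : IsPullback (sqa.lift (φ ⁻¹ᵁ W).ι ((φ ∣_ W) ≫ t) hw) (φ ∣_ W) (pullback.snd φ₀ (U.ι ≫ g)) t := by
    refine IsPullback.of_right ?_ (sqa.lift_snd _ _ _) sqa
    rw [sqa.lift_fst, T.homOfLE_ι hWU]
    exact sq1
  have hwD : (i ⁻¹ᵁ (φ ⁻¹ᵁ W)).ι ≫ i = ((i ∣_ (φ ⁻¹ᵁ W)) ≫ sqa.lift (φ ⁻¹ᵁ W).ι ((φ ∣_ W) ≫ t) hw) ≫ a := by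
    rw [Category.assoc, sqa.lift_fst, sq1D.w]
  have sqtD : IsPullback (sqb.lift (i ⁻¹ᵁ (φ ⁻¹ᵁ W)).ι
      ((i ∣_ (φ ⁻¹ᵁ W)) ≫ sqa.lift (φ ⁻¹ᵁ W).ι ((φ ∣_ W) ≫ t) hw) hwD) (i ∣_ (φ ⁻¹ᵁ W))
      (CInt.baseChangeOver i₀ φ₀ (U.ι ≫ g)) (sqa.lift (φ ⁻¹ᵁ W).ι ((φ ∣_ W) ≫ t) hw) := by
    refine IsPullback.of_right ?_ (sqb.lift_snd _ _ _) sqb
    rw [sqb.lift_fst, sqa.lift_fst]
    exact sq1D
  exact HasSt.bc (isMPCurve_bc φ₀ i₀ hC (U.ι ≫ g)) hU ht sqt sqtD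

end K264.SS
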