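import Groth.Agent.SSMod.K971.StableBC
import Groth.Agent.SSMod.K971.Restrict
import Groth.Agent.FlatMor.K263.GenFibre
import Groth.Agent.FlatMor.K263.EtaUniq
import Groth.Agent.Surf.K456.TorsFib
import Groth.Agent.Flat2B.SmoothGeom

/-!
# Existence of stable modifications which are isomorphisms on generic fibres: base change
-/

set_option autoImplicit false
universe u

open CategoryTheory AlgebraicGeometry Limits TopologicalSpace Topology

namespace K264.SS

/-- Existence of a stable modification which is an isomorphism on generic fibres. -/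
def HasSt {S C D : Scheme.{u}} [IsIntegral S] (φ : C ⟶ S) (i : D ⟶ C) : Prop :=
  ∃ (C' D' : Scheme.{u}) (i' : D' ⟶ C') (fC : C' ⟶ C) (fD : D' ⟶ D),
    SSMod.IsStableModification φ i i' fC fD ∧ SSMod.IsEtaIso φ fC ∧ SSMod.IsEtaIso (i ≫ φ) fD

theorem HasSt.bc {S T C D CT DT : Scheme.{u}} [IsIntegral S] [IsIntegral T] {φ : C ⟶ S} {i : D ⟶ C}
    (hC : SSMod.IsMPCurve φ i) (h : HasSt φ i) {t : T ⟶ S} (ht : t (genericPoint T) = genericPoint S)
    {p : CT ⟶ C} {φT : CT ⟶ T} (sq : IsPullback p φT φ t) {pD : DT ⟶ D} {iT : DT ⟶ CT}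
    (sqi : IsPullback pD iT i p) : HasSt φT iT := by
  obtain ⟨C', D', i', fC, fD, h1, h2, h3⟩ := h
  have hw : i' ≫ fC = fD ≫ i := h1.1.1.1
  have sqC : IsPullback (pullback.fst fC p) (pullback.snd fC p) fC p := IsPullback.of_hasPullback _ _
  have sqD : IsPullback (pullback.fst fD pD) (pullback.snd fD pD) fD pD := IsPullback.of_hasPullback _ _
  let iT' : pullback fD pD ⟶ pullback fC p := pullback.lift (pullback.fst fD pD ≫ i') (pullback.snd fD pD ≫ iT) (by
    rw [Category.assoc, Category.assoc, hw, ← sqi.w, ← Category.assoc, pullback.condition, Category.assoc])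
  exact ⟨_, _, iT', _, _, K971.StableBC.isStableModification_baseChange hC h1 h2 h3 ht sq sqi sqC sqD iT'
    (pullback.lift_fst _ _ _) (pullback.lift_snd _ _ _)⟩

/-- The hypothesis on the generic fibre. -/
def SsGen {S C D : Scheme.{u}} [IsIntegral S] (φ : C ⟶ S) (i : D ⟶ C) : Prop :=
  SSMod.IsSemistable (pullback.snd φ (S.fromSpecStalk (genericPoint S)))
    (CInt.baseChangeOver i φ (S.fromSpecStalk (genericPoint S)))

theorem SsGen.bc {S T C D CT DT : Scheme.{u}} [IsIntegral S] [IsIntegral T] {φ : C ⟶ S} {i : D ⟶ C}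
    (h : SsGen φ i) {t : T ⟶ S} (ht : t (genericPoint T) = genericPoint S)
    {p : CT ⟶ C} {φT : CT ⟶ T} (sq : IsPullback p φT φ t) {pD : DT ⟶ D} {iT : DT ⟶ CT}
    (sqi : IsPullback pD iT i p) : SsGen φT iT := by
  obtain ⟨k, hk⟩ := K263.EtaUniq.exists_generic t ht
  set j := S.fromSpecStalk (genericPoint S) with hj
  set jT := T.fromSpecStalk (genericPoint T) with hjT
  have hw : (pullback.fst φT jT ≫ p) ≫ φ = (pullback.snd φT jT ≫ k) ≫ j := by
    rw [Category.assoc, sq.w, pullback.condition_assoc, Category.assoc, hk]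
  let r : pullback φT jT ⟶ pullback φ j := pullback.lift (pullback.fst φT jT ≫ p) (pullback.snd φT jT ≫ k) hw
  have hr1 : r ≫ pullback.fst φ j = pullback.fst φT jT ≫ p := pullback.lift_fst _ _ _
  have hr2 : r ≫ pullback.snd φ j = pullback.snd φT jT ≫ k := pullback.lift_snd _ _ _
  have hbig := ((IsPullback.of_hasPullback φT jT).flip.paste_vert sq.flip).flip
  rw [← hk] at hbig
  have sqr : IsPullback r (pullback.snd φT jT) (pullback.snd φ j) k := by
    refine IsPullback.of_right ?_ hr2 (IsPullback.of_hasPullback φ j)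
    rw [hr1]
    exact hbig
  have e1 := K971.SSRestrict.isPullback_baseChangeOver i φ j
  have e2 := K971.SSRestrict.isPullback_baseChangeOver iT φT jT
  have e3 := e2.flip.paste_vert sqi.flip
  have hw2 : (pullback.fst (iT ≫ φT) jT ≫ pD) ≫ i = (CInt.baseChangeOver iT φT jT ≫ r) ≫ pullback.fst φ j := by
    rw [← e3.w, Category.assoc, hr1]
  let rD : pullback (iT ≫ φT) jT ⟶ pullback (i ≫ φ) j := e1.lift (pullback.fst (iT ≫ φT) jT ≫ pD)
    (CInt.baseChangeOver iT φT jT ≫ r) hw2
  have hrD1 : rD ≫ pullback.fst (i ≫ φ) j = pullback.fst (iT ≫ φT) jT ≫ pD := e1.lift_fst _ _ _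
  have hrD2 : rD ≫ CInt.baseChangeOver i φ j = CInt.baseChangeOver iT φT jT ≫ r := e1.lift_snd _ _ _
  have sqrD : IsPullback rD (CInt.baseChangeOver iT φT jT) (CInt.baseChangeOver i φ j) r := by
    refine IsPullback.of_right ?_ hrD2 e1
    rw [hrD1, hr1]
    exact e3.flip
  exact K971.SSBaseChange.isSemistable_of_isPullback h sqr sqrD

theorem isReduced_of_schDom {X Y : Scheme.{u}} (f : X ⟶ Y) [IsSchemeTheoreticallyDominant f] [QuasiCompact f]
    [IsReduced X] : IsReduced Y :=
  ⟨fun U => isReduced_of_injective (f.app U).hom (Scheme.Hom.app_injective f U)⟩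

theorem isReduced_of_flat_of_generic {S X : Scheme.{u}} [IsIntegral S] (φ : X ⟶ S) [Flat φ]
    (h : IsReduced (pullback φ (S.fromSpecStalk (genericPoint S)))) : IsReduced X := by
  have h1 : IsSchemeTheoreticallyDominant (pullback.fst φ (S.fromSpecStalk (genericPoint S))) :=
    K263.GenFibre.dominant_of_flat (IsPullback.of_hasPullback φ (S.fromSpecStalk (genericPoint S)))
  have h2 : QuasiCompact (pullback.fst φ (S.fromSpecStalk (genericPoint S))) :=
    K263.GenFibre.quasiCompact (IsPullback.of_hasPullback φ (S.fromSpecStalk (genericPoint S)))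
  exact isReduced_of_schDom (pullback.fst φ (S.fromSpecStalk (genericPoint S)))

theorem isReduced_of_ssGen {S C D : Scheme.{u}} [IsIntegral S] {φ : C ⟶ S} {i : D ⟶ C}
    (hC : SSMod.IsMPCurve φ i) (h : SsGen φ i) : IsReduced C ∧ IsReduced D := by
  have hf1 : Flat φ := hC.1
  have hf2 : Flat (i ≫ φ) := hC.2.2.2.2.2.2.1
  have hfd : IsField (S.presheaf.stalk (genericPoint S)) := Field.toIsField (S.functionField)
  obtain ⟨-, hn, het, -⟩ := h
  constructor
  · apply isReduced_of_flat_of_generic φ
    have h1 := K456.TorsFib.geometricallyReduced_of_nodal _ hn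
    have h2 : Flat (pullback.snd φ (S.fromSpecStalk (genericPoint S))) := hn.1
    have h3 : IsNoetherianRing (S.presheaf.stalk (genericPoint S)) := by
      let := hfd.toField
      infer_instance
    have h5 : IsReduced (Spec (S.presheaf.stalk (genericPoint S))) := inferInstance
    have h6 : IsLocallyNoetherian (Spec (S.presheaf.stalk (genericPoint S))) := inferInstance
    exact GeometricallyReduced.isReduced_of_flat_of_isLocallyNoetherian
      (pullback.snd φ (S.fromSpecStalk (genericPoint S)))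
  · apply isReduced_of_flat_of_generic (i ≫ φ)
    rw [K971.SSRestrict.baseChangeOver_snd] at het
    exact Groth.Agent.Flat2B.SmoothGeom.isReduced_of_smooth (K := S.functionField)
      (pullback.snd (i ≫ φ) (S.fromSpecStalk (genericPoint S)))

end K264.SS
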