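import Groth.Agent.FlatMor.K264.Rfc.DescEta
import Groth.Agent.SSMod.K971.StableBC

/-!
# Modifications of multipointed curves at a finite stage
-/

set_option autoImplicit false
universe u

open CategoryTheory AlgebraicGeometry Limits TopologicalSpace Topology

namespace K264.SS

theorem isIso_of_isClosedImmersion_of_dominant {W Z : Scheme.{u}} (e : W ⟶ Z) [IsClosedImmersion e]
    [IsSchemeTheoreticallyDominant e] : IsIso e := by
  refine IsClosedImmersion.isIso_of_ker_eq e (𝟙 Z) e (by simp) ?_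
  rw [e.ker_eq_bot, (𝟙 Z : Z ⟶ Z).ker_eq_bot]

/-- A closed immersion which is an isomorphism on generic fibres and whose target is flat is an isomorphism. -/
theorem isIso_of_isEtaIso_of_flat {T W Z : Scheme.{u}} [IsIntegral T] (χ : Z ⟶ T) [Flat χ] (e : W ⟶ Z)
    [IsClosedImmersion e] (h : SSMod.IsEtaIso χ e) : IsIso e := by
  have hiso : IsIso (pullback.snd e (pullback.fst χ (T.fromSpecStalk (genericPoint T)))) := h
  have h1 : IsSchemeTheoreticallyDominant (pullback.fst χ (T.fromSpecStalk (genericPoint T))) :=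
    K263.GenFibre.dominant_of_flat (IsPullback.of_hasPullback χ (T.fromSpecStalk (genericPoint T)))
  let s := inv (pullback.snd e (pullback.fst χ (T.fromSpecStalk (genericPoint T)))) ≫ pullback.fst e _
  have hs : s ≫ e = pullback.fst χ (T.fromSpecStalk (genericPoint T)) := by
    rw [Category.assoc, pullback.condition, IsIso.inv_hom_id_assoc]
  have h2 : IsSchemeTheoreticallyDominant (s ≫ e) := by rw [hs]; exact h1
  have h3 : IsSchemeTheoreticallyDominant e := K263.ToImage.of_comp s e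
  exact isIso_of_isClosedImmersion_of_dominant e

theorem mp_descend {T T' : Scheme.{u}} [IsIntegral T] [IsIntegral T'] (π : T' ⟶ T)
    (hπ : π (genericPoint T') = genericPoint T) {C D : Scheme.{u}} {φ : C ⟶ T} {i : D ⟶ C}
    (hC : SSMod.IsMPCurve φ i) {C' D' : Scheme.{u}} {φ' : C' ⟶ T'} {i' : D' ⟶ C'} {a : C' ⟶ C} {b : D' ⟶ D}
    (sq : IsPullback a φ' φ π) (sqi : IsPullback b i' i a)
    {X' Z' : Scheme.{u}} {z' : Z' ⟶ X'} {f' : X' ⟶ C'} {g' : Z' ⟶ D'} (w : z' ≫ f' = g' ≫ i')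
    (hf' : SSMod.IsEtaIso φ' f') (hg' : SSMod.IsEtaIso (i' ≫ φ') g')
    {X Z : Scheme.{u}} (z : Z ⟶ X) (f : X ⟶ C) [IsProper f] [LocallyOfFinitePresentation f]
    [IsClosedImmersion z] [LocallyOfFinitePresentation z] [Flat (f ≫ φ)] (h1 : Cyc.HasRelDim (f ≫ φ) 1)
    [Flat (z ≫ f ≫ φ)] (h0 : Cyc.HasRelDim (z ≫ f ≫ φ) 0) {q : X' ⟶ X} {r : Z' ⟶ Z}
    (sqf : IsPullback q f' f a) (sqz : IsPullback r z' z q) :
    ∃ g : Z ⟶ D, SSMod.IsMPModification φ i z f g ∧ SSMod.IsEtaIso φ f ∧ SSMod.IsEtaIso (i ≫ φ) g ∧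
      IsPullback r g' g b := by
  obtain ⟨hφ1, hφ2, hφ3, hφ4, hφ5, hi1, hi2, hi3, hi4⟩ := hC
  have hη : SSMod.IsEtaIso φ f := K264.Rfc.isIso_snd_descend π hπ φ φ' a sq f f' q sqf hf'
  -- the factorization through the marked subscheme
  let e : pullback (z ≫ f) i ⟶ Z := pullback.fst (z ≫ f) i
  have sqZ : IsPullback r (z' ≫ f' ≫ φ') (z ≫ f ≫ φ) π := by
    have := (sqz.paste_vert sqf).paste_vert sq
    simpa only [Category.assoc] using this
  have he' : IsIso (pullback.snd e r) := by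
    have hcl : IsClosedImmersion (pullback.snd e r) := inferInstance
    have hw2 : r ≫ z ≫ f = (g' ≫ b) ≫ i := by
      rw [← Category.assoc, sqz.w, Category.assoc, sqf.w, ← Category.assoc, w, Category.assoc, ← sqi.w,
        Category.assoc]
    let s : Z' ⟶ pullback e r := pullback.lift (pullback.lift r (g' ≫ b) hw2) (𝟙 _) (by
      rw [Category.id_comp]; exact pullback.lift_fst _ _ _)
    have hs : s ≫ pullback.snd e r = 𝟙 _ := pullback.lift_snd _ _ _
    have : IsIso s := by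
      refine ⟨⟨pullback.snd e r, hs, ?_⟩⟩
      rw [← cancel_mono (pullback.snd e r), Category.assoc, hs, Category.comp_id, Category.id_comp]
    exact IsIso.of_isIso_fac_left hs
  have heη : SSMod.IsEtaIso (z ≫ f ≫ φ) e := by
    refine K264.Rfc.isIso_snd_descend π hπ (z ≫ f ≫ φ) (z' ≫ f' ≫ φ') r sqZ e (pullback.snd e r)
      (pullback.fst e r) (IsPullback.of_hasPullback e r) ?_
    infer_instance
  have heiso : IsIso e := isIso_of_isEtaIso_of_flat (z ≫ f ≫ φ) e heη
  let g : Z ⟶ D := inv e ≫ pullback.snd (z ≫ f) i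
  have hg : z ≫ f = g ≫ i := by
    have : e ≫ z ≫ f = pullback.snd (z ≫ f) i ≫ i := pullback.condition
    rw [Category.assoc, ← this, IsIso.inv_hom_id_assoc]
  have hcomm : r ≫ g = g' ≫ b := by
    rw [← cancel_mono i, Category.assoc, ← hg, ← Category.assoc, sqz.w, Category.assoc, sqf.w,
      ← Category.assoc, w, Category.assoc, Category.assoc, sqi.w]
  have sqg : IsPullback r g' g b := by
    refine IsPullback.of_bot ?_ hcomm sqi
    rw [← hg, ← w]
    exact sqz.paste_vert sqf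
  have hpr : IsProper g := by
    have : IsProper (g ≫ i) := by rw [← hg]; infer_instance
    exact IsProper.of_comp g i
  have hfpg : LocallyOfFinitePresentation g := by
    have : LocallyOfFinitePresentation (g ≫ i ≫ φ) := by
      rw [← Category.assoc, ← hg]; infer_instance
    exact Groth.Agent.Ega43.FPOfComp.locallyOfFinitePresentation_of_comp g (i ≫ φ)
  have hgφ : g ≫ i ≫ φ = z ≫ f ≫ φ := by rw [← Category.assoc, ← hg, Category.assoc]
  have hηg : SSMod.IsEtaIso (i ≫ φ) g :=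
    K264.Rfc.isIso_snd_descend π hπ (i ≫ φ) (i' ≫ φ') b (sqi.paste_vert sq) g g' r sqg hg'
  have hflg : Flat (g ≫ i ≫ φ) := by rw [hgφ]; infer_instance
  refine ⟨g, ⟨hg, ⟨inferInstance, inferInstance, inferInstance, inferInstance, h1, inferInstance, inferInstance,
    inferInstance, h0⟩, ?_, ?_⟩, hη, hηg, sqg⟩
  · have hs1 : IsPullback (𝟙 C) φ φ (𝟙 T) := IsPullback.of_horiz_isIso ⟨by simp⟩
    have hs2 : IsPullback (𝟙 X) f f (𝟙 C) := IsPullback.of_horiz_isIso ⟨by simp⟩
    exact K971.EtaNbhd.isModification_baseChange hη (t := 𝟙 T) rfl hs1 hs2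
  · have hs1 : IsPullback (𝟙 D) (i ≫ φ) (i ≫ φ) (𝟙 T) := IsPullback.of_horiz_isIso ⟨by simp⟩
    have hs2 : IsPullback (𝟙 Z) g g (𝟙 D) := IsPullback.of_horiz_isIso ⟨by simp⟩
    exact K971.EtaNbhd.isModification_baseChange hηg (t := 𝟙 T) rfl hs1 hs2

end K264.SS
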