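import Groth.Agent.SSMod.K264.HasSt
import Groth.Agent.SSMod.K264.MPDesc

/-!
# Base changes of a marked curve along two morphisms over each other
-/

set_option autoImplicit false
universe u

open CategoryTheory AlgebraicGeometry Limits TopologicalSpace Topology

namespace K264.SS

variable {S T T' C₀ D₀ : Scheme.{u}} (φ₀ : C₀ ⟶ S) (i₀ : D₀ ⟶ C₀)

theorem exists_relD (g : T ⟶ S) (g' : T' ⟶ S) (a : pullback φ₀ g' ⟶ pullback φ₀ g)
    (ha : a ≫ pullback.fst φ₀ g = pullback.fst φ₀ g') :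
    ∃ b : pullback (i₀ ≫ φ₀) g' ⟶ pullback (i₀ ≫ φ₀) g,
      IsPullback b (CInt.baseChangeOver i₀ φ₀ g') (CInt.baseChangeOver i₀ φ₀ g) a := by
  have h1 := K971.SSRestrict.isPullback_baseChangeOver i₀ φ₀ g
  have h2 := K971.SSRestrict.isPullback_baseChangeOver i₀ φ₀ g'
  have hw : pullback.fst (i₀ ≫ φ₀) g' ≫ i₀ = (CInt.baseChangeOver i₀ φ₀ g' ≫ a) ≫ pullback.fst φ₀ g := by
    rw [h2.w, Category.assoc, ha]
  refine ⟨h1.lift _ _ hw, ?_⟩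
  refine IsPullback.of_right ?_ (h1.lift_snd _ _ _) h1
  rw [h1.lift_fst, ha]
  exact h2

theorem exists_relC (g : T ⟶ S) (t : T' ⟶ T) (g' : T' ⟶ S) (hg : t ≫ g = g') :
    ∃ a : pullback φ₀ g' ⟶ pullback φ₀ g, a ≫ pullback.fst φ₀ g = pullback.fst φ₀ g' ∧
      IsPullback a (pullback.snd φ₀ g') (pullback.snd φ₀ g) t := by
  subst hg
  have h1 := IsPullback.of_hasPullback φ₀ g
  have h2 := IsPullback.of_hasPullback φ₀ (t ≫ g)
  have hw : pullback.fst φ₀ (t ≫ g) ≫ φ₀ = (pullback.snd φ₀ (t ≫ g) ≫ t) ≫ g := by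
    rw [h2.w, Category.assoc]
  refine ⟨h1.lift _ _ hw, h1.lift_fst _ _ _, ?_⟩
  refine IsPullback.of_right ?_ (h1.lift_snd _ _ _) h1
  rw [h1.lift_fst]
  exact h2

theorem isMPCurve_bc (hC : SSMod.IsMPCurve φ₀ i₀) (g : T ⟶ S) :
    SSMod.IsMPCurve (pullback.snd φ₀ g) (CInt.baseChangeOver i₀ φ₀ g) :=
  K971.SSBaseChange.isMPCurve_of_isPullback hC (IsPullback.of_hasPullback φ₀ g)
    (K971.SSRestrict.isPullback_baseChangeOver i₀ φ₀ g)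

/-- Solutions. -/
def SSol (T : Scheme.{u}) (g : T ⟶ S) : Prop :=
  ∃ _ : IsIntegral T, HasSt (pullback.snd φ₀ g) (CInt.baseChangeOver i₀ φ₀ g)

variable {φ₀ i₀}

theorem SSol.bc (hC : SSMod.IsMPCurve φ₀ i₀) [IsIntegral T] [IsIntegral T'] {t : T' ⟶ T} {g : T ⟶ S}
    (ht : t (genericPoint T') = genericPoint T) (h : SSol φ₀ i₀ T g) : SSol φ₀ i₀ T' (t ≫ g) := by
  obtain ⟨_, h⟩ := h
  refine ⟨inferInstance, ?_⟩
  obtain ⟨a, ha, sqa⟩ := exists_relC φ₀ g t (t ≫ g) rfl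
  obtain ⟨b, sqb⟩ := exists_relD φ₀ i₀ g (t ≫ g) a ha
  exact HasSt.bc (isMPCurve_bc φ₀ i₀ hC g) h ht sqa sqb

end K264.SS
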