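import Groth.Agent.SSMod.K264.Model
import Groth.Agent.SSMod.K264.Rel

/-!
# Multipointed curves over a limit come from a finite stage
-/

set_option autoImplicit false
set_option backward.isDefEq.respectTransparency false
set_option backward.defeqAttrib.useBackward true
universe u

open CategoryTheory AlgebraicGeometry Limits TopologicalSpace Topology
open Groth.Agent.Ega43.LimitDescend K264.Rfc

namespace K264.SS

variable {I : Type u} [SmallCategory I] [IsCofiltered I] (D : I ⥤ Scheme.{u}) (c : Cone D) (hc : IsLimit c)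
  [∀ (i j : I) (f : i ⟶ j), IsAffineHom (D.map f)] [∀ i, CompactSpace (D.obj i)]
  [∀ i, QuasiSeparatedSpace (D.obj i)]

include hc in
theorem exists_mp_model {C M : Scheme.{u}} (φ : C ⟶ c.pt) (m : M ⟶ C) (h : SSMod.IsMPCurve φ m) :
    ∃ (j : I) (Cj Mj : Scheme.{u}) (φj : Cj ⟶ D.obj j) (mj : Mj ⟶ Cj) (v : C ⟶ Cj) (w : M ⟶ Mj),
      SSMod.IsMPCurve φj mj ∧ IsPullback v φ φj (c.π.app j) ∧ IsPullback w m mj v := by
  obtain ⟨c1, c2, c3, c4, c5, c6, c7, c8, c9⟩ := h
  obtain ⟨i, Ci, fi, v₁, a1, a2, a3, sq⟩ := Groth.Agent.S0591.result D c hc C φ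
  obtain ⟨j, hj⟩ := (DescendsLim.inf Groth.Agent.Sga3.H515.LimSmooth.descendsLim_flat (descendsLim_lrd 1))
    (Over.forget i ⋙ D) (overCone c i) (isLimitOverCone _ hc i) (fun j => D.map j.hom) (fun {j k} a => by
      rw [Functor.comp_map, ← D.map_comp]; congr 1; exact Over.w a) fi
    (c.π.app i) (fun j => c.w j.hom) v₁ φ sq ⟨c1, inferInstance, c5⟩
  let k₁ : I := j.left
  let φ₁ : pullback fi (D.map j.hom) ⟶ D.obj k₁ := pullback.snd fi (D.map j.hom)
  have b1 : Flat φ₁ := hj.1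
  have b2 : Cyc.HasRelDim φ₁ 1 := hj.2.2
  have hw : v₁ ≫ fi = (φ ≫ c.π.app k₁) ≫ D.map j.hom := by
    rw [sq.w, Category.assoc, c.w]
  have sq₁ : IsPullback (pullback.lift v₁ (φ ≫ c.π.app k₁) hw) φ φ₁ (c.π.app k₁) := by
    refine IsPullback.of_right ?_ (pullback.lift_snd _ _ _) (IsPullback.of_hasPullback fi (D.map j.hom))
    rw [pullback.lift_fst, c.w]
    exact sq
  let e := sq₁.isoPullback
  have he1 : e.hom ≫ pullback.fst φ₁ (c.π.app k₁) = pullback.lift v₁ (φ ≫ c.π.app k₁) hw := sq₁.isoPullback_hom_fst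
  have he2 : e.hom ≫ pullback.snd φ₁ (c.π.app k₁) = φ := sq₁.isoPullback_hom_snd
  have ht₁ : ∀ {j k : Over k₁} (a : j ⟶ k), (Over.forget k₁ ⋙ D).map a ≫ D.map k.hom = D.map j.hom := fun {j k} a => by
    rw [Functor.comp_map, ← D.map_comp]; congr 1; exact Over.w a
  have hlm : LocallyOfFinitePresentation m := Groth.Agent.Ega43.FPOfComp.locallyOfFinitePresentation_of_comp m φ
  obtain ⟨k, Dk, ψk, qD, d1, d2, d3, sqD, d4, d5, d6⟩ := exists_model_props (Over.forget k₁ ⋙ D) (overCone c k₁)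
    (isLimitOverCone _ hc k₁) (fun j => D.map j.hom) ht₁ φ₁ (c.π.app k₁) (fun j => c.w j.hom) (m ≫ e.hom)
    (P := @IsClosedImmersion) (Q := @Flat ⊓ Lrd 0)
    Groth.Agent.Ega43.LimitDescendClosed.descendsLim_isClosedImmersion
    (DescendsLim.inf Groth.Agent.Sga3.H515.LimSmooth.descendsLim_flat (descendsLim_lrd 0)) inferInstance (by
      rw [Category.assoc, he2]
      exact ⟨inferInstance, inferInstance, c9⟩)
  have sqC' := isPullback_pbCone (fun j : Over k₁ => D.map j.hom) ht₁ φ₁ (overCone c k₁) (c.π.app k₁)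
    (fun j => c.w j.hom) _ _ (IsPullback.of_hasPullback φ₁ (c.π.app k₁)) k
  have hs1 : IsPullback e.hom φ (pullback.snd φ₁ (c.π.app k₁)) (𝟙 _) := IsPullback.of_horiz_isIso ⟨by simp [he2]⟩
  have sqCk := hs1.paste_horiz sqC'
  rw [Category.id_comp] at sqCk
  have hs2 : IsPullback (𝟙 M) m (m ≫ e.hom) e.hom := IsPullback.of_horiz_isIso ⟨by simp⟩
  have sqDk := hs2.paste_horiz sqD
  rw [Category.id_comp] at sqDk
  have e1 : Flat (pullback.snd φ₁ (D.map k.hom)) := MorphismProperty.of_isPullback (IsPullback.of_hasPullback _ _) b1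
  have e2 : LocallyOfFinitePresentation φ₁ := MorphismProperty.of_isPullback (IsPullback.of_hasPullback _ _) a1
  have e3 : QuasiCompact φ₁ := MorphismProperty.of_isPullback (IsPullback.of_hasPullback _ _) a2
  have e4 : QuasiSeparated φ₁ := MorphismProperty.of_isPullback (IsPullback.of_hasPullback _ _) a3
  refine ⟨k.left, pullback φ₁ (D.map k.hom), Dk, pullback.snd φ₁ (D.map k.hom), ψk, _, qD, ?_, sqCk, sqDk⟩
  have e5 : LocallyOfFinitePresentation (pullback.snd φ₁ (D.map k.hom)) := inferInstance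
  refine ⟨e1, e5, inferInstance, inferInstance,
    K308.Grp.hasRelDim_of_isPullback (IsPullback.of_hasPullback φ₁ (D.map k.hom)).flip b2, d4, d5, ?_, d6.2⟩
  infer_instance

end K264.SS
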