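import Groth.Agent.SSMod.K264.SolSS
import Groth.Agent.SSMod.K264.MPModel

/-!
# Existence of stable modifications over an integral base
-/

set_option autoImplicit false
universe u

open CategoryTheory AlgebraicGeometry Limits TopologicalSpace Topology
open K264.Rfc Groth.Agent.Ega43.LimitDescend
open K342.Dat K342.Cons K342.Model

namespace K264.SS

theorem HasSt.transfer {T T' S C₀ D₀ CA DA CB DB : Scheme.{u}} [IsIntegral T] [IsIntegral T'] {φ₀ : C₀ ⟶ S}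
    {i₀ : D₀ ⟶ C₀} (hMP : SSMod.IsMPCurve φ₀ i₀) {k : T ⟶ S} {t : T' ⟶ T} (ht : t (genericPoint T') = genericPoint T)
    {pA : CA ⟶ C₀} {φA : CA ⟶ T} {iA : DA ⟶ CA} {dA : DA ⟶ D₀} (sqA : IsPullback pA φA φ₀ k)
    (sqA' : IsPullback dA iA i₀ pA) (h : HasSt φA iA)
    {pB : CB ⟶ C₀} {φB : CB ⟶ T'} {iB : DB ⟶ CB} {dB : DB ⟶ D₀} (sqB : IsPullback pB φB φ₀ (t ≫ k))
    (sqB' : IsPullback dB iB i₀ pB) : HasSt φB iB := by
  have hw : pB ≫ φ₀ = (φB ≫ t) ≫ k := by rw [sqB.w, Category.assoc]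
  have sq : IsPullback (sqA.lift pB (φB ≫ t) hw) φB φA t := by
    refine IsPullback.of_right ?_ (sqA.lift_snd _ _ _) sqA
    rw [sqA.lift_fst]
    exact sqB
  have hw' : dB ≫ i₀ = (iB ≫ sqA.lift pB (φB ≫ t) hw) ≫ pA := by
    rw [Category.assoc, sqA.lift_fst, sqB'.w]
  have sq' : IsPullback (sqA'.lift dB (iB ≫ sqA.lift pB (φB ≫ t) hw) hw') iB iA (sqA.lift pB (φB ≫ t) hw) := by
    refine IsPullback.of_right ?_ (sqA'.lift_snd _ _ _) sqA'
    rw [sqA'.lift_fst, sqA.lift_fst]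
    exact sqB'
  exact HasSt.bc (K971.SSBaseChange.isMPCurve_of_isPullback hMP sqA sqA') h ht sq sq'

/-- Semistability of the generic fibre descends. -/
theorem SsGen.descend {S S₀ C D C₀ D₀ : Scheme.{u}} [IsIntegral S] [IsIntegral S₀] {φ : C ⟶ S} {i : D ⟶ C}
    (h : SsGen φ i) {φ₀ : C₀ ⟶ S₀} {i₀ : D₀ ⟶ C₀} (hMP : SSMod.IsMPCurve φ₀ i₀) {u : S ⟶ S₀}
    (hu : u (genericPoint S) = genericPoint S₀) {v : C ⟶ C₀} {w : D ⟶ D₀} (sq : IsPullback v φ φ₀ u)
    (sqi : IsPullback w i i₀ v) : SsGen φ₀ i₀ := by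
  have hMP' := K971.SSBaseChange.isMPCurve_of_isPullback hMP sq sqi
  have c2 : LocallyOfFinitePresentation φ₀ := hMP.2.1
  have c3 : QuasiCompact φ₀ := hMP.2.2.1
  have c4 : QuasiSeparated φ₀ := hMP.2.2.2.1
  have h1 := (K342.StabE.generic_mem_iff φ i hMP').2 h
  have bc : BC u (K342.Fib.dat φ i (𝟙 C)) (K342.Fib.dat φ₀ i₀ (𝟙 C₀)) :=
    ⟨v, v, w, sq, IsPullback.of_vert_isIso ⟨by simp⟩, sqi⟩
  have hid : SSMod.IsMPCurve (𝟙 C₀ ≫ φ₀) i₀ := by rw [Category.id_comp]; exact hMP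
  have h2 := K342.PreE.preimage_E bc (fpres_of_isMPCurve φ₀ i₀ (𝟙 C₀) hid) (inferInstanceAs (IsProper (𝟙 C₀)))
    hMP.2.2.2.2.2.1
  rw [← h2] at h1
  refine (K342.StabE.generic_mem_iff φ₀ i₀ hMP).1 ?_
  rw [← hu]
  exact h1

theorem noeth_case (HV : ValSt.{u}) (HU : K971.SSUses.Uniq.{u}) {S C₀ D₀ : Scheme.{u}} [IsIntegral S] [IsNoetherian S]
    (a : S ⟶ Spec (CommRingCat.of (ULift.{u} ℤ))) [LocallyOfFiniteType a] {φ₀ : C₀ ⟶ S} {i₀ : D₀ ⟶ C₀}
    (hMP : SSMod.IsMPCurve φ₀ i₀) (hη : SsGen φ₀ i₀) :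
    ∃ (S' : Scheme.{u}) (_ : IsIntegral S') (g : S' ⟶ S), Pi1.IsNormalScheme S' ∧ GenEtAlt g ∧
      SSol φ₀ i₀ S' g := by
  obtain ⟨F, hF, hcl⟩ := exists_fg_functionField S a
  exact exists_alteration S Groth.Agent.Sga3.H786.TC.isNagata_uliftInt a (SeparableClosure S.functionField)
    (solProp hMP HV hη HU (SeparableClosure S.functionField) fun V => finite_primeSpectrum F hF hcl V)

/-- **Existence of stable modifications** over an integral base, from the case of valuation rings and uniqueness. -/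
theorem main (HV : ValSt.{u}) (HU : K971.SSUses.Uniq.{u}) {S C D : Scheme.{u}} [IsIntegral S] [CompactSpace S]
    [QuasiSeparatedSpace S] (φ : C ⟶ S) (i : D ⟶ C) (hC : SSMod.IsMPCurve φ i) (hη : SsGen φ i) :
    ∃ (S' : Scheme.{u}) (_ : IsIntegral S') (g : S' ⟶ S), GenEtAlt g ∧
      HasSt (pullback.snd φ g) (CInt.baseChangeOver i φ g) := by
  obtain ⟨I, _, _, _, E, c, hc, h1, h2, ⟨e⟩⟩ := Groth.Agent.S0590.result S
  have inst1 : ∀ (i j : Iᵒᵖ) (f : i ⟶ j), IsAffineHom (E.map f) := h1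
  have inst2 : ∀ i, CompactSpace (E.obj i) := fun i => (h2 i).1
  have inst3 : IsNoetherianRing (ULift.{u} ℤ) :=
    isNoetherianRing_of_ringEquiv ℤ ULift.ringEquiv.symm
  have inst4 : ∀ i, IsLocallyNoetherian (E.obj i) := fun i => by
    have := (h2 i).2
    exact LocallyOfFiniteType.isLocallyNoetherian (Limits.IsTerminal.from specULiftZIsTerminal (E.obj i))
  have inst5 : ∀ i, QuasiSeparatedSpace (E.obj i) := fun i => inferInstance
  have hs0 : IsPullback (𝟙 C) (φ ≫ e.inv) φ e.hom := IsPullback.of_horiz_isIso ⟨by simp⟩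
  have hs0' : IsPullback (𝟙 D) i i (𝟙 C) := IsPullback.of_horiz_isIso ⟨by simp⟩
  obtain ⟨j, Cj, Dj, φj, ij, v₁, w₁, hMP, sq, sqi⟩ := exists_mp_model E c hc (φ ≫ e.inv) i
    (K971.SSBaseChange.isMPCurve_of_isPullback hC hs0 hs0')
  let u₁ : S ⟶ E.obj j := e.inv ≫ c.π.app j
  have sq₁ : IsPullback v₁ φ φj u₁ :=
    IsPullback.of_iso sq (Iso.refl _) (Iso.refl _) e (Iso.refl _) (by simp) (by simp) (by simp) (by simp [u₁])
  have hqc : QuasiCompact u₁ := inferInstance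
  have hT : IsIntegral u₁.image := Groth.Agent.CycB.ImageInt.isIntegral_image u₁
  let ιT : u₁.image ⟶ E.obj j := u₁.imageι
  let u : S ⟶ u₁.image := u₁.toImage
  have hu : u ≫ ιT = u₁ := u₁.toImage_imageι
  have hud : IsDominant u := inferInstance
  have hTn : IsLocallyNoetherian u₁.image := LocallyOfFiniteType.isLocallyNoetherian ιT
  have hTc : CompactSpace u₁.image := QuasiCompact.compactSpace_of_compactSpace ιT
  have hTN : IsNoetherian u₁.image := {}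
  have hft := (h2 j).2
  let a : u₁.image ⟶ Spec (CommRingCat.of (ULift.{u} ℤ)) := ιT ≫ Limits.IsTerminal.from specULiftZIsTerminal (E.obj j)
  have ha : LocallyOfFiniteType a := inferInstance
  let φ₀ := pullback.snd φj ιT
  let i₀ := CInt.baseChangeOver ij φj ιT
  have hMP₀ : SSMod.IsMPCurve φ₀ i₀ := isMPCurve_bc φj ij hMP ιT
  let v : C ⟶ pullback φj ιT := pullback.lift v₁ (φ ≫ u) (by rw [Category.assoc, hu, sq₁.w])
  have hv1 : v ≫ pullback.fst φj ιT = v₁ := pullback.lift_fst _ _ _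
  have sq₂ : IsPullback v φ φ₀ u := by
    refine IsPullback.of_right (h₁₂ := pullback.fst φj ιT) (h₂₂ := ιT) (v₁₃ := φj) ?_ (pullback.lift_snd _ _ _)
      (IsPullback.of_hasPullback φj ιT)
    rw [pullback.lift_fst, hu]
    exact sq₁
  have hD := K971.SSRestrict.isPullback_baseChangeOver ij φj ιT
  have hww : w₁ ≫ ij = (i ≫ v) ≫ pullback.fst φj ιT := by rw [Category.assoc, hv1, sqi.w]
  have sqi₂ : IsPullback (hD.lift w₁ (i ≫ v) hww) i i₀ v := by
    refine IsPullback.of_right ?_ (hD.lift_snd _ _ _) hD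
    rw [hD.lift_fst, hv1]
    exact sqi
  have hη₀ : SsGen φ₀ i₀ := hη.descend hMP₀ (apply_genericPoint u) sq₂ sqi₂
  obtain ⟨S₀', _, g₀, hN, hg₀, hsol⟩ := noeth_case HV HU a hMP₀ hη₀
  obtain ⟨S', _, g, u', hg, hu', hcomm⟩ := GenEtAlt.pull u g₀ hg₀
  obtain ⟨_, hE⟩ := hsol
  refine ⟨S', inferInstance, g, hg, ?_⟩
  have sq₃ := (IsPullback.of_hasPullback φ g).flip.paste_vert sq₂.flip
  have sqi₃ := (K971.SSRestrict.isPullback_baseChangeOver i φ g).paste_horiz sqi₂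
  rw [← hcomm] at sq₃
  exact HasSt.transfer hMP₀ (apply_genericPoint u') (IsPullback.of_hasPullback φ₀ g₀)
    (K971.SSRestrict.isPullback_baseChangeOver i₀ φ₀ g₀) hE sq₃.flip sqi₃

end K264.SS
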