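import Groth.Agent.SSMod.K264.Desc
import Groth.Agent.Ega43.LimitDescendClosed

/-!
# Descending a proper curve over a curve together with a marked closed subscheme
-/

set_option autoImplicit false
set_option backward.isDefEq.respectTransparency false
set_option backward.defeqAttrib.useBackward true
universe u

open CategoryTheory AlgebraicGeometry Limits TopologicalSpace Topology
open Groth.Agent.Ega43.LimitDescend K264.Rfc

namespace K264.SS

variable {I : Type u} [SmallCategory I] [IsCofiltered I] (D : I ⥤ Scheme.{u}) (c : Cone D) (hc : IsLimit c)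
  [∀ (i j : I) (f : i ⟶ j), IsAffineHom (D.map f)] [∀ i, CompactSpace (D.obj i)]
  [∀ i, QuasiSeparatedSpace (D.obj i)]
  {S C₀ : Scheme.{u}} (t : ∀ j, D.obj j ⟶ S) (ht : ∀ {i j : I} (φ : i ⟶ j), D.map φ ≫ t j = t i)
  (φ₀ : C₀ ⟶ S) [QuasiCompact φ₀] [QuasiSeparated φ₀] [LocallyOfFinitePresentation φ₀]
  (p : c.pt ⟶ S) (hp : ∀ j, c.π.app j ≫ t j = p)

include hc in
theorem exists_model_pair {C' D' : Scheme.{u}} (i' : D' ⟶ C') (fC : C' ⟶ pullback φ₀ p)
    [IsProper fC] [LocallyOfFinitePresentation fC] [Flat (fC ≫ pullback.snd φ₀ p)]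
    (h1 : Cyc.HasRelDim (fC ≫ pullback.snd φ₀ p) 1) [IsClosedImmersion i'] [LocallyOfFinitePresentation i']
    [Flat (i' ≫ fC ≫ pullback.snd φ₀ p)] (h0 : Cyc.HasRelDim (i' ≫ fC ≫ pullback.snd φ₀ p) 0) :
    ∃ (j : I) (Cj Dj : Scheme.{u}) (ij : Dj ⟶ Cj) (fj : Cj ⟶ pullback φ₀ (t j)) (qC : C' ⟶ Cj) (qD : D' ⟶ Dj),
      IsPullback qC fC fj ((bcCone D c t ht φ₀ p hp).π.app j) ∧ IsPullback qD i' ij qC ∧
      IsProper fj ∧ LocallyOfFinitePresentation fj ∧ Flat (fj ≫ pullback.snd φ₀ (t j)) ∧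
      Cyc.HasRelDim (fj ≫ pullback.snd φ₀ (t j)) 1 ∧ IsClosedImmersion ij ∧ LocallyOfFinitePresentation ij ∧
      Flat (ij ≫ fj ≫ pullback.snd φ₀ (t j)) ∧ Cyc.HasRelDim (ij ≫ fj ≫ pullback.snd φ₀ (t j)) 0 := by
  obtain ⟨i, X, ψ, q, a1, a2, a3, sq, a4, a5, a6⟩ := exists_model_props D c hc t ht φ₀ p hp fC
    (P := @IsProper) (Q := @Flat ⊓ Lrd 1) K286.Desc.descendsLim_isProper
    (DescendsLim.inf Groth.Agent.Sga3.H515.LimSmooth.descendsLim_flat (descendsLim_lrd 1)) inferInstance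
    ⟨inferInstance, inferInstance, h1⟩
  let φ₁ : X ⟶ D.obj i := ψ ≫ pullback.snd φ₀ (t i)
  have sq' : IsPullback q (fC ≫ pullback.snd φ₀ p) φ₁ (c.π.app i) :=
    sq.paste_vert (isPullback_pbCone t ht φ₀ c p hp _ _ (IsPullback.of_hasPullback φ₀ p) i)
  let e := sq'.isoPullback
  have he1 : e.hom ≫ pullback.fst φ₁ (c.π.app i) = q := sq'.isoPullback_hom_fst
  have he2 : e.hom ≫ pullback.snd φ₁ (c.π.app i) = fC ≫ pullback.snd φ₀ p := sq'.isoPullback_hom_snd
  have ht₁ : ∀ {j k : Over i} (a : j ⟶ k), (Over.forget i ⋙ D).map a ≫ D.map k.hom = D.map j.hom := fun {j k} a => by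
    rw [Functor.comp_map, ← D.map_comp]; congr 1; exact Over.w a
  obtain ⟨k, Dk, ψk, qD, b1, b2, b3, sqD, b4, b5, b6⟩ := exists_model_props (Over.forget i ⋙ D) (overCone c i)
    (isLimitOverCone _ hc i) (fun j => D.map j.hom) ht₁ φ₁ (c.π.app i) (fun j => c.w j.hom) (i' ≫ e.hom)
    (P := @IsClosedImmersion) (Q := @Flat ⊓ Lrd 0)
    Groth.Agent.Ega43.LimitDescendClosed.descendsLim_isClosedImmersion
    (DescendsLim.inf Groth.Agent.Sga3.H515.LimSmooth.descendsLim_flat (descendsLim_lrd 0)) inferInstance (by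
      rw [Category.assoc, he2]
      exact ⟨inferInstance, inferInstance, h0⟩)
  let E := pbDiagram t ht φ₀
  let Ck := pullback φ₁ (D.map k.hom)
  let fk : Ck ⟶ pullback φ₀ (t k.left) := pullback.lift (pullback.fst φ₁ (D.map k.hom) ≫ ψ ≫ pullback.fst φ₀ (t i))
    (pullback.snd φ₁ (D.map k.hom)) (by
      rw [Category.assoc, Category.assoc, pullback.condition, ← ht k.hom, ← Category.assoc ψ, ← Category.assoc]
      change (pullback.fst φ₁ (D.map k.hom) ≫ φ₁) ≫ _ = _
      rw [pullback.condition, Category.assoc])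
  have hfk2 : fk ≫ pullback.snd φ₀ (t k.left) = pullback.snd φ₁ (D.map k.hom) := pullback.lift_snd _ _ _
  have hfkE : fk ≫ E.map k.hom = pullback.fst φ₁ (D.map k.hom) ≫ ψ := by
    apply pullback.hom_ext
    · rw [Category.assoc, pbDiagram_map_fst, pullback.lift_fst, Category.assoc]
    · rw [Category.assoc, (isPullback_pbSnd t ht φ₀ k.hom).w, ← Category.assoc, hfk2, Category.assoc]
      exact pullback.condition.symm
  have sqk : IsPullback (pullback.fst φ₁ (D.map k.hom)) fk ψ (E.map k.hom) := by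
    refine IsPullback.of_bot ?_ hfkE.symm (isPullback_pbSnd t ht φ₀ k.hom)
    rw [hfk2]
    exact IsPullback.of_hasPullback _ _
  let π := (bcCone D c t ht φ₀ p hp).π
  have hw : π.app k.left ≫ E.map k.hom = π.app i := (bcCone D c t ht φ₀ p hp).w k.hom
  let π₁ : pullback φ₁ (c.π.app i) ⟶ Ck :=
    (bcCone (Over.forget i ⋙ D) (overCone c i) (fun j => D.map j.hom) ht₁ φ₁ (c.π.app i) (fun j => c.w j.hom)).π.app k
  have hπ₁ : π₁ ≫ pullback.fst φ₁ (D.map k.hom) = pullback.fst φ₁ (c.π.app i) :=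
    pbCone_π_fst (fun j : Over i => D.map j.hom) ht₁ φ₁ (overCone c i) (c.π.app i) (fun j => c.w j.hom) _ _
      (IsPullback.of_hasPullback φ₁ (c.π.app i)) k
  have hπ₂ : π₁ ≫ pullback.snd φ₁ (D.map k.hom) = pullback.snd φ₁ (c.π.app i) ≫ c.π.app k.left :=
    pbCone_π_snd (fun j : Over i => D.map j.hom) ht₁ φ₁ (overCone c i) (c.π.app i) (fun j => c.w j.hom) _ _
      (IsPullback.of_hasPullback φ₁ (c.π.app i)) k
  let qC : C' ⟶ Ck := e.hom ≫ π₁
  have hqC : qC ≫ pullback.fst φ₁ (D.map k.hom) = q := by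
    rw [Category.assoc, hπ₁, he1]
  have hqf : qC ≫ fk = fC ≫ π.app k.left := by
    apply (isPullback_pbSnd t ht φ₀ k.hom).hom_ext
    · rw [Category.assoc, hfkE, ← Category.assoc, hqC, Category.assoc, hw, sq.w]
    · rw [Category.assoc, hfk2, Category.assoc, hπ₂, ← Category.assoc, he2, Category.assoc, Category.assoc]
      congr 1
      exact (isPullback_pbCone t ht φ₀ c p hp _ _ (IsPullback.of_hasPullback φ₀ p) k.left).w.symm
  have sqC : IsPullback qC fC fk (π.app k.left) := by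
    refine IsPullback.of_right (h₁₂ := pullback.fst φ₁ (D.map k.hom)) (h₂₂ := E.map k.hom) (v₁₃ := ψ) ?_ hqf sqk
    rw [hqC, hw]
    exact sq
  have sqD' : IsPullback qD i' ψk qC := by
    have h2 : IsPullback (𝟙 D') i' (i' ≫ e.hom) e.hom := IsPullback.of_horiz_isIso ⟨by simp⟩
    have h3 := h2.paste_horiz sqD
    rwa [Category.id_comp] at h3
  have hprk : IsProper fk := MorphismProperty.of_isPullback (P := @IsProper) sqk a4
  have hlfpk : LocallyOfFinitePresentation fk :=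
    MorphismProperty.of_isPullback (P := @LocallyOfFinitePresentation) sqk a1
  have sqb : IsPullback (pullback.fst φ₁ (D.map k.hom)) (pullback.snd φ₁ (D.map k.hom)) φ₁ (D.map k.hom) :=
    IsPullback.of_hasPullback _ _
  refine ⟨k.left, Ck, Dk, ψk, fk, qC, qD, sqC, sqD', hprk, hlfpk, ?_, ?_, b4, b1, ?_, ?_⟩
  · rw [hfk2]; exact MorphismProperty.of_isPullback (P := @Flat) sqb a5
  · rw [hfk2]
    exact (MorphismProperty.of_isPullback (P := Lrd 1) sqb a6).2
  · rw [hfk2]; exact b5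
  · rw [hfk2]; exact b6.2

end K264.SS
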