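import Groth.Agent.SSMod.K264.ValSt
import Groth.Agent.SSMod.K264.GlueBase
import Groth.Agent.FlatMor.K264.Rfc.Final

/-!
# Existence of stable modifications as a Riemann–Zariski local problem
-/

set_option autoImplicit false
universe u

open CategoryTheory AlgebraicGeometry Limits TopologicalSpace Topology
open K264.Rfc

namespace K264.SS

/-- The statement of S15281. -/
def ValSt : Prop := ∀ (R : Type u) [CommRing R] [IsDomain R] [ValuationRing R] [Finite (PrimeSpectrum R)]
    [IsSepClosed (FractionRing R)] {C D : Scheme.{u}} (φ : C ⟶ Spec (CommRingCat.of R)) (i : D ⟶ C)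
    (_ : SSMod.IsMPCurve φ i) [IsReduced C] [IsReduced D]
    (_ : SSMod.IsSemistable (pullback.snd φ ((Spec (CommRingCat.of R)).fromSpecStalk (genericPoint (Spec (CommRingCat.of R)))))
      (CInt.baseChangeOver i φ ((Spec (CommRingCat.of R)).fromSpecStalk (genericPoint (Spec (CommRingCat.of R)))))),
    ∃ (Cst Dst : Scheme.{u}) (ist : Dst ⟶ Cst) (fC : Cst ⟶ C) (fD : Dst ⟶ D),
      SSMod.IsStableModification φ i ist fC fD ∧ SSMod.IsEtaIso φ fC ∧
        SSMod.IsEtaIso (i ≫ φ) fD

theorem SsGen.pull {S T C₀ D₀ : Scheme.{u}} [IsIntegral S] [IsIntegral T] {φ₀ : C₀ ⟶ S} {i₀ : D₀ ⟶ C₀}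
    (h : SsGen φ₀ i₀) {g : T ⟶ S} (hg : g (genericPoint T) = genericPoint S) :
    SsGen (pullback.snd φ₀ g) (CInt.baseChangeOver i₀ φ₀ g) :=
  SsGen.bc h hg (IsPullback.of_hasPullback φ₀ g) (K971.SSRestrict.isPullback_baseChangeOver i₀ φ₀ g)

section Val

variable {S C₀ D₀ : Scheme.{u}} {φ₀ : C₀ ⟶ S} {i₀ : D₀ ⟶ C₀} [IsIntegral S] (hMP : SSMod.IsMPCurve φ₀ i₀)

open K115.RelFG

include hMP in
theorem exists_fg {R V : Type u} [CommRing R] [CommRing V] [IsDomain V] [Algebra R V]
    (p₀ : Spec (CommRingCat.of R) ⟶ S)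
    (h : HasSt (pullback.snd φ₀ (Spec.map (CommRingCat.ofHom (algebraMap R V)) ≫ p₀))
      (CInt.baseChangeOver i₀ φ₀ (Spec.map (CommRingCat.ofHom (algebraMap R V)) ≫ p₀))) :
    ∃ (F : Finset V), SSol φ₀ i₀ _
      (Spec.map (CommRingCat.ofHom (algebraMap R (Algebra.adjoin R (F : Set V)))) ≫ p₀) := by
  have i1 : ∀ j : (FGSub R V)ᵒᵖ, IsIntegral ((specDiagram R V).obj j) := fun j =>
    inferInstanceAs (IsIntegral (Spec (CommRingCat.of j.unop.1)))
  have i2 : IsIntegral (specCone R V).pt := inferInstanceAs (IsIntegral (Spec (CommRingCat.of V)))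
  let t : ∀ j : (FGSub R V)ᵒᵖ, (specDiagram R V).obj j ⟶ S := fun j =>
    Spec.map (CommRingCat.ofHom (algebraMap R j.unop.1)) ≫ p₀
  obtain ⟨j, hj⟩ := descend_hasSt (specDiagram R V) (specCone R V) (isLimitSpecCone R V) t (by
      intro i j f
      change Spec.map _ ≫ Spec.map _ ≫ p₀ = Spec.map _ ≫ p₀
      rw [← Spec.map_comp_assoc]
      rfl) φ₀ i₀ hMP (Spec.map (CommRingCat.ofHom (algebraMap R V)) ≫ p₀) (by
      intro j
      change Spec.map _ ≫ Spec.map _ ≫ p₀ = Spec.map _ ≫ p₀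
      rw [← Spec.map_comp_assoc]
      rfl) (by
      intro j
      have : IsDominant ((specCone R V).π.app j) :=
        isDominant_SpecMap_of_injective _ (Subtype.val_injective)
      exact apply_genericPoint (X := (specCone R V).pt) ((specCone R V).π.app j)) h
  obtain ⟨F, hF⟩ := j.unop.2
  refine ⟨F, ?_⟩
  rw [hF]
  exact hj

variable (HV : ValSt.{u}) (hη : SsGen φ₀ i₀)

include hMP HV hη in
theorem SSol.val (Ω : Type u) [Field Ω] [IsSepClosed Ω] [Algebra S.functionField Ω]
    (U : S.Opens) (hU : genericPoint S ∈ U) (hUa : IsAffineOpen U) (V : ValuationSubring Ω)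
    (hfin : Finite (PrimeSpectrum V)) (hle : (toOmega S Ω U hU).range ≤ V.toSubring) :
    ∃ F : Finset Ω, (F : Set Ω) ⊆ V ∧
      SSol φ₀ i₀ _
        (modelMap S Ω U hU hUa ((toOmega S Ω U hU).range ⊔ Subring.closure (F : Set Ω)) le_sup_left) := by
  let θ : Γ(S, U) →+* V := (toOmega S Ω U hU).codRestrict V.toSubring fun x => hle ⟨x, rfl⟩
  let _ : Algebra Γ(S, U) V := θ.toAlgebra
  let _ : Algebra Γ(S, U) Ω := (toOmega S Ω U hU).toAlgebra
  have : IsScalarTower Γ(S, U) V Ω := IsScalarTower.of_algebraMap_eq fun _ => rfl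
  have hsc : IsSepClosed (FractionRing V) :=
    isSepClosed_of_ringEquiv (FractionRing.algEquiv V Ω).symm.toRingEquiv
  let p : Spec (CommRingCat.of V) ⟶ S := Spec.map (CommRingCat.ofHom (algebraMap Γ(S, U) V)) ≫ hUa.fromSpec
  have hpd : IsDominant p := isDominant_modelMap S Ω U hU hUa V.toSubring hle
  have hE : HasSt (pullback.snd φ₀ p) (CInt.baseChangeOver i₀ φ₀ p) := by
    have h1 := isMPCurve_bc φ₀ i₀ hMP p
    have h2 : SsGen (pullback.snd φ₀ p) (CInt.baseChangeOver i₀ φ₀ p) := hη.pull (apply_genericPoint p)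
    obtain ⟨h3, h4⟩ := isReduced_of_ssGen h1 h2
    exact HV V _ _ h1 h2
  obtain ⟨F₀, hF₀⟩ := exists_fg hMP (R := Γ(S, U)) (V := V) hUa.fromSpec hE
  classical
  let F : Finset Ω := F₀.image V.subtype
  refine ⟨F, ?_, ?_⟩
  · intro x hx
    simp only [F, Finset.coe_image, Set.mem_image] at hx
    obtain ⟨y, -, rfl⟩ := hx
    exact y.2
  · set B : Subring Ω := (toOmega S Ω U hU).range ⊔ Subring.closure (F : Set Ω) with hB
    have hmem : ∀ x ∈ Algebra.adjoin Γ(S, U) (F₀ : Set V), (x : Ω) ∈ B := by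
      intro x hx
      induction hx using Algebra.adjoin_induction with
      | mem x hx =>
        refine (le_sup_right : Subring.closure (F : Set Ω) ≤ B) (Subring.subset_closure ?_)
        simp only [F, Finset.coe_image]
        exact ⟨x, hx, rfl⟩
      | algebraMap r => exact (le_sup_left : (toOmega S Ω U hU).range ≤ B) ⟨r, rfl⟩
      | add x y _ _ hx hy => exact B.add_mem hx hy
      | mul x y _ _ hx hy => exact B.mul_mem hx hy
    let δ : Algebra.adjoin Γ(S, U) (F₀ : Set V) →+* B :=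
      (V.subtype.comp (Algebra.adjoin Γ(S, U) (F₀ : Set V)).val.toRingHom).codRestrict B fun x => hmem x.1 x.2
    have hδ : Function.Injective δ := fun x y hxy => by
      have h1 : ((δ x : B) : Ω) = ((δ y : B) : Ω) := congrArg (fun b : B => (b : Ω)) hxy
      have h2 : (x.1 : Ω) = (y.1 : Ω) := h1
      exact Subtype.ext (Subtype.ext h2)
    have hd : IsDominant (Spec.map (CommRingCat.ofHom δ)) := isDominant_SpecMap_of_injective _ hδ
    have h1 := SSol.bc hMP (apply_genericPoint (Spec.map (CommRingCat.ofHom δ))) hF₀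
    rw [← Spec.map_comp_assoc] at h1
    exact h1

include hMP HV hη in
theorem solProp (HU : K971.SSUses.Uniq.{u}) [IsNoetherian S] (Ω : Type u) [Field Ω] [IsSepClosed Ω]
    [Algebra S.functionField Ω]
    (hfin : ∀ V : ValuationSubring Ω, Finite (PrimeSpectrum V)) : SolProp S Ω (SSol φ₀ i₀) where
  bc t g ht hg h := SSol.bc hMP (apply_genericPoint t) h
  glue {T} _ hT g _ hlft hqc h := by
    have h1 : IsLocallyNoetherian T := LocallyOfFiniteType.isLocallyNoetherian g
    have h2 : CompactSpace T := QuasiCompact.compactSpace_of_compactSpace g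
    exact SSol.glue HU hMP hT g h
  val U hU hUa V hle := SSol.val hMP HV hη Ω U hU hUa V (hfin V) hle

end Val

end K264.SS
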