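import Groth.Agent.SSMod.K264.Rel
import Groth.Agent.SSMod.K264.Model
import Groth.Agent.SSMod.K342.StabE

/-!
# Stable modifications descend to a finite stage
-/

set_option autoImplicit false
set_option backward.isDefEq.respectTransparency false
universe u

open CategoryTheory AlgebraicGeometry Limits TopologicalSpace Topology
open Groth.Agent.Ega43.LimitDescend K264.Rfc
open K342.Dat K342.Cons K342.Model

namespace K264.SS

theorem fpres_of_isMPCurve {S C C' D' : Scheme.{u}} (φ : C ⟶ S) [LocallyOfFinitePresentation φ] [QuasiCompact φ]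
    [QuasiSeparated φ] (i' : D' ⟶ C') (f : C' ⟶ C) (h : SSMod.IsMPCurve (f ≫ φ) i') :
    FPres (K342.Fib.dat φ i' f) := by
  obtain ⟨h1, h2, h3, h4, h5, h6, h7, h8, h9⟩ := h
  exact ⟨inferInstance, inferInstance, inferInstance, h2, h3, h4, h8,
    inferInstanceAs (QuasiCompact (i' ≫ f ≫ φ)), inferInstanceAs (QuasiSeparated (i' ≫ f ≫ φ))⟩

/-- A modification of multipointed curves over `T` whose locus is everything gives a solution. -/
theorem hasSt_of_E {T : Scheme.{u}} [IsIntegral T] {C D C' D' : Scheme.{u}} {φ : C ⟶ T} {i : D ⟶ C} {i' : D' ⟶ C'}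
    {fC : C' ⟶ C} {fD : D' ⟶ D} (h : SSMod.IsMPModification φ i i' fC fD) (h1 : SSMod.IsEtaIso φ fC)
    (h2 : SSMod.IsEtaIso (i ≫ φ) fD) (hE : E (K342.Fib.dat φ i' fC) = Set.univ) : HasSt φ i :=
  ⟨_, _, i', fC, fD, (K342.StabE.isStableModification_iff φ i i' fC fD h).2 hE, h1, h2⟩

/-- Base change of modifications of multipointed curves, with the locus. -/
theorem hasSt_of_bc {T T' : Scheme.{u}} [IsIntegral T] [IsIntegral T'] {C D C' D' CT DT : Scheme.{u}} {φ : C ⟶ T}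
    {i : D ⟶ C} (hC : SSMod.IsMPCurve φ i) {i' : D' ⟶ C'}
    {fC : C' ⟶ C} {fD : D' ⟶ D} (h : SSMod.IsMPModification φ i i' fC fD) (h1 : SSMod.IsEtaIso φ fC)
    (h2 : SSMod.IsEtaIso (i ≫ φ) fD) {t : T' ⟶ T} (ht : t (genericPoint T') = genericPoint T)
    (hE : ∀ x, t x ∈ E (K342.Fib.dat φ i' fC)) {p : CT ⟶ C} {φT : CT ⟶ T'} (sq : IsPullback p φT φ t)
    {pD : DT ⟶ D} {iT : DT ⟶ CT} (sqi : IsPullback pD iT i p) : HasSt φT iT := by
  have hlfp := K971.StableBC.lfp_fC hC h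
  have hl1 := hlfp.1
  have hl2 := hlfp.2
  have hp1 : IsProper fC := h.2.2.1.1
  have hp2 : IsProper fD := h.2.2.2.1
  have hcl : IsClosedImmersion i' := h.2.1.2.2.2.2.2.1
  have c1 : Flat φ := hC.1
  have c2 : LocallyOfFinitePresentation φ := hC.2.1
  have c3 : QuasiCompact φ := hC.2.2.1
  have c4 : QuasiSeparated φ := hC.2.2.2.1
  have c5 : Flat (i ≫ φ) := hC.2.2.2.2.2.2.1
  have c6 : Flat (fC ≫ φ) := h.2.1.1
  have e : i' ≫ fC ≫ φ = fD ≫ i ≫ φ := by rw [← Category.assoc, h.1, Category.assoc]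
  have c7 : Flat (fD ≫ i ≫ φ) := e ▸ h.2.1.2.2.2.2.2.2.1
  have sqC : IsPullback (pullback.fst fC p) (pullback.snd fC p) fC p := IsPullback.of_hasPullback _ _
  have sqD : IsPullback (pullback.fst fD pD) (pullback.snd fD pD) fD pD := IsPullback.of_hasPullback _ _
  let iT' : pullback fD pD ⟶ pullback fC p := pullback.lift (pullback.fst fD pD ≫ i') (pullback.snd fD pD ≫ iT) (by
    rw [Category.assoc, Category.assoc, h.1, ← sqi.w, ← Category.assoc, pullback.condition, Category.assoc])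
  have e1 : iT' ≫ pullback.fst fC p = pullback.fst fD pD ≫ i' := pullback.lift_fst _ _ _
  have e2 : iT' ≫ pullback.snd fC p = pullback.snd fD pD ≫ iT := pullback.lift_snd _ _ _
  have sqi' : IsPullback (pullback.fst fD pD) iT' i' (pullback.fst fC p) := by
    refine IsPullback.of_bot ?_ e1.symm sqC
    rw [e2, h.1]
    exact sqD.paste_vert sqi
  have hm : SSMod.IsMPModification φT iT iT' (pullback.snd fC p) (pullback.snd fD pD) :=
    ⟨e2, K971.SSBaseChange.isMPCurve_of_isPullback h.2.1 (sqC.paste_vert sq) sqi',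
      K971.EtaNbhd.isModification_baseChange h1 ht sq sqC,
      K971.EtaNbhd.isModification_baseChange h2 ht (sqi.paste_vert sq) sqD⟩
  refine hasSt_of_E hm (K971.SSBaseChange.isEtaIso_baseChange h1 ht sq.w sqC)
    (K971.SSBaseChange.isEtaIso_baseChange h2 ht (sqi.paste_vert sq).w sqD) ?_
  have bc : BC t (K342.Fib.dat φT iT' (pullback.snd fC p)) (K342.Fib.dat φ i' fC) :=
    ⟨p, pullback.fst fC p, pullback.fst fD pD, sq, sqC, sqi'⟩
  rw [← K342.PreE.preimage_E bc (fpres_of_isMPCurve φ i' fC h.2.1) hp1 hcl]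
  exact Set.eq_univ_of_forall hE

section

variable {I : Type u} [SmallCategory I] [IsCofiltered I] (D : I ⥤ Scheme.{u}) (c : Cone D) (hc : IsLimit c)
  [∀ (i j : I) (f : i ⟶ j), IsAffineHom (D.map f)] [∀ i, CompactSpace (D.obj i)]
  [∀ i, QuasiSeparatedSpace (D.obj i)]
  {S C₀ D₀ : Scheme.{u}} (t : ∀ j, D.obj j ⟶ S) (ht : ∀ {i j : I} (φ : i ⟶ j), D.map φ ≫ t j = t i)
  (φ₀ : C₀ ⟶ S) (i₀ : D₀ ⟶ C₀) (hMP : SSMod.IsMPCurve φ₀ i₀)
  (p : c.pt ⟶ S) (hp : ∀ j, c.π.app j ≫ t j = p)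

include hc ht hp hMP in
theorem descend_hasSt [∀ j, IsIntegral (D.obj j)] [IsIntegral c.pt]
    (hgen : ∀ j, c.π.app j (genericPoint c.pt) = genericPoint (D.obj j))
    (h : HasSt (pullback.snd φ₀ p) (CInt.baseChangeOver i₀ φ₀ p)) :
    ∃ j, SSol φ₀ i₀ (D.obj j) (t j) := by
  obtain ⟨C', D', i', fC, fD, hst, hC, hD⟩ := h
  have c2 : LocallyOfFinitePresentation φ₀ := hMP.2.1
  have c3 : QuasiCompact φ₀ := hMP.2.2.1
  have c4 : QuasiSeparated φ₀ := hMP.2.2.2.1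
  have hMPp := isMPCurve_bc φ₀ i₀ hMP p
  have hm := hst.1.1
  have hl1 := (K971.StableBC.lfp_fC hMPp hm).1
  have hp1 : IsProper fC := hm.2.2.1.1
  obtain ⟨m1, m2, m3, m4, m5, m6, m7, m8, m9⟩ := hm.2.1
  have hl2 : LocallyOfFinitePresentation i' :=
    Groth.Agent.Ega43.FPOfComp.locallyOfFinitePresentation_of_comp i' (fC ≫ pullback.snd φ₀ p)
  obtain ⟨j, Cj, Dj, ij, fj, qC, qD, sqC, sqD, j1, j2, j3, j4, j5, j6, j7, j8⟩ :=
    exists_model_pair D c hc t ht φ₀ p hp i' fC m5 m9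
  have sqb := isPullback_pbCone t ht φ₀ c p hp _ _ (IsPullback.of_hasPullback φ₀ p) j
  obtain ⟨b, sqbD⟩ := exists_relD φ₀ i₀ (t j) p ((bcCone D c t ht φ₀ p hp).π.app j)
    (pbCone_π_fst t ht φ₀ c p hp _ _ (IsPullback.of_hasPullback φ₀ p) j)
  obtain ⟨g, hg, hη1, hη2, sqg⟩ := mp_descend (T' := c.pt) (c.π.app j) (hgen j) (isMPCurve_bc φ₀ i₀ hMP (t j)) sqb sqbD
    hm.1 hC hD ij fj j4 j8 sqC sqD
  have hE : ∀ x : c.pt, c.π.app j x ∈ E (K342.Fib.dat (pullback.snd φ₀ (t j)) ij fj) := by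
    have bc : BC (c.π.app j) (K342.Fib.dat (pullback.snd φ₀ p) i' fC) (K342.Fib.dat (pullback.snd φ₀ (t j)) ij fj) :=
      ⟨_, qC, qD, sqb, sqC, sqD⟩
    have h1 := K342.PreE.preimage_E bc (fpres_of_isMPCurve (pullback.snd φ₀ (t j)) ij fj hg.2.1) j1 j5
    rw [(K342.StabE.isStableModification_iff _ _ _ _ _ hm).1 hst] at h1
    intro x
    have : x ∈ (c.π.app j) ⁻¹' E (K342.Fib.dat (pullback.snd φ₀ (t j)) ij fj) := by
      rw [h1]; trivial
    exact this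
  obtain ⟨k, f, hf⟩ := K342.PreE.exists_stage_E D c hc j _
    (fpres_of_isMPCurve (pullback.snd φ₀ (t j)) ij fj hg.2.1) j1 j5 hE
  refine ⟨k, inferInstance, ?_⟩
  obtain ⟨a, ha, sqa⟩ := exists_relC φ₀ (t j) (D.map f) (t k) (ht f)
  obtain ⟨b', sqb'⟩ := exists_relD φ₀ i₀ (t j) (t k) a ha
  have hgk : D.map f (genericPoint (D.obj k)) = genericPoint (D.obj j) := by
    rw [← hgen k, ← Scheme.Hom.comp_apply, c.w f]
    exact hgen j
  exact hasSt_of_bc (isMPCurve_bc φ₀ i₀ hMP (t j)) hg hη1 hη2 hgk hf sqa sqb'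

end

end K264.SS
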